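import Groth.Agent.CDiv6.Basic
import Groth.Prelude.Def_Pi1
import Mathlib.AlgebraicGeometry.OrderOfVanishing
import Mathlib.AlgebraicGeometry.Properties
import Mathlib.RingTheory.DiscreteValuationRing.TFAE
import Mathlib.RingTheory.Valuation.Discrete.IsDiscreteValuationRing
import Mathlib.RingTheory.Ideal.KrullsHeightTheorem
import Mathlib.RingTheory.UniqueFactorizationDomain.Kaplansky
import Mathlib.RingTheory.IntegralClosure.Algebra.Basic
import Mathlib.RingTheory.OrderOfVanishing.Noetherian

/-!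
# Cartier divisors on normal schemes
-/

universe u

open CategoryTheory AlgebraicGeometry TopologicalSpace IsLocalRing

namespace Groth.Agent.CDiv6

section Alg

variable (A : Type u) [CommRing A] [IsDomain A] [IsNoetherianRing A] [IsLocalRing A]
  [IsIntegrallyClosed A]

theorem isDVR_of_depth_eq_one (h : LocCoh.depth A A = 1) : IsDiscreteValuationRing A := by
  have hnf : ¬ IsField A := fun hF => by
    have h1 := (Alg6.one_le_depth_iff (R := A) (M := A)).mp h.ge
    apply h1
    rw [isField_iff_maximalIdeal_eq.mp hF]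
    exact Alg6.mem_ass_iff.mpr ⟨Ideal.isPrime_bot, 1, fun a => by simp⟩
  obtain ⟨b, hb, hb0⟩ := Submodule.exists_mem_ne_zero_of_ne_bot
    (fun hh => hnf (isField_iff_maximalIdeal_eq.mpr hh))
  have hreg : IsSMulRegular A b := fun u v h => mul_left_cancel₀ hb0 h
  have hass : maximalIdeal A ∈ associatedPrimes A (QuotSMulTop b A) := by
    by_contra hc
    have := (Alg6.two_le_depth_iff hb hreg).mpr hc
    rw [h] at this
    norm_num at this
  obtain ⟨-, z, hz⟩ := Alg6.mem_ass_iff.mp hass
  obtain ⟨a, rfl⟩ := Submodule.Quotient.mk_surjective _ z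
  have hz' : ∀ c, c ∈ maximalIdeal A ↔ b ∣ c * a := fun c => by
    rw [hz, ← Submodule.Quotient.mk_smul, Alg6.mem_pointwise_smul_top_iff]
    exact ⟨fun ⟨w, hw⟩ => ⟨w, hw.symm⟩, fun ⟨w, hw⟩ => ⟨w, hw.symm⟩⟩
  by_cases hall : ∀ c w : A, c ∈ maximalIdeal A → c * a = b * w → w ∈ maximalIdeal A
  · exfalso
    have hbK : algebraMap A (FractionRing A) b ≠ 0 := by simpa using hb0
    set f := algebraMap A (FractionRing A) a / algebraMap A (FractionRing A) b with hf
    have hint : IsIntegral A f := by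
      refine isIntegral_of_smul_mem_submodule
        (Submodule.map (Algebra.linearMap A (FractionRing A)) (maximalIdeal A))
        ?_ ((IsNoetherian.noetherian _).map _) f ?_
      · intro hh
        refine hbK ((Submodule.mem_bot A).mp ?_)
        rw [← hh]
        exact ⟨b, hb, rfl⟩
      · rintro _ ⟨c, hc, rfl⟩
        obtain ⟨w, hw⟩ := (hz' c).mp hc
        refine ⟨w, hall c w hc hw, ?_⟩
        rw [Algebra.linearMap_apply, Algebra.linearMap_apply, smul_eq_mul, hf, div_mul_eq_mul_div,
          eq_div_iff hbK, ← map_mul, ← map_mul, mul_comm a c, hw, mul_comm]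
    obtain ⟨w, hw⟩ := IsIntegrallyClosed.isIntegral_iff.mp hint
    rw [hf, eq_div_iff hbK, ← map_mul] at hw
    have hba : b ∣ 1 * a :=
      ⟨w, by rw [one_mul, ← IsFractionRing.injective A (FractionRing A) hw, mul_comm]⟩
    exact (maximalIdeal.isMaximal A).ne_top ((Ideal.eq_top_iff_one _).mpr ((hz' 1).mpr hba))
  · push Not at hall
    obtain ⟨t, u, ht, htu, hu⟩ := hall
    have huu : IsUnit u := notMem_maximalIdeal.mp hu
    have hmax : maximalIdeal A = Ideal.span {t} := by
      refine le_antisymm (fun c hc => ?_) (by rwa [Ideal.span_le, Set.singleton_subset_iff])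
      obtain ⟨w, hw⟩ := (hz' c).mp hc
      obtain ⟨v, rfl⟩ := huu
      refine Ideal.mem_span_singleton'.mpr ⟨w * ↑v⁻¹, ?_⟩
      have ha0 : a ≠ 0 := fun ha0 => by
        rw [ha0, mul_zero] at htu
        exact mul_ne_zero hb0 v.ne_zero htu.symm
      refine mul_right_cancel₀ ha0 ?_
      calc w * ↑v⁻¹ * t * a = w * ↑v⁻¹ * (b * v) := by rw [mul_assoc, htu]
        _ = b * w * (↑v⁻¹ * v) := by ring
        _ = c * a := by rw [Units.inv_mul, mul_one, hw]
    have key : IsDiscreteValuationRing A ↔ (maximalIdeal A).IsPrincipal :=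
      (IsDiscreteValuationRing.TFAE A hnf).out 0 4
    exact key.mpr ⟨t, by rw [hmax, Ideal.submodule_span_eq]⟩

theorem isDVR_of_dim_eq_one (h : ringKrullDim A = 1) : IsDiscreteValuationRing A := by
  have hnf : ¬ IsField A := fun hF => by
    rw [ringKrullDim_eq_zero_of_isField hF] at h
    exact zero_ne_one h
  haveI : Ring.KrullDimLE 1 A := Ring.krullDimLE_iff.mpr h.le
  have key : IsDiscreteValuationRing A ↔ IsIntegrallyClosed A ∧ ∃! P : Ideal A, P ≠ ⊥ ∧ P.IsPrime :=
    (IsDiscreteValuationRing.TFAE A hnf).out 0 3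
  refine key.mpr ⟨inferInstance, maximalIdeal A,
    ⟨fun hh => hnf (isField_iff_maximalIdeal_eq.mpr hh), inferInstance⟩, fun P ⟨hP, hP'⟩ => ?_⟩
  haveI := hP'
  exact eq_maximalIdeal ((Ring.krullDimLE_one_iff_of_isPrime_bot.mp inferInstance) P hP hP')

end Alg

variable {X : Scheme.{u}} [IsIntegral X] [IsLocallyNoetherian X] (hX : Pi1.IsNormalScheme X)

include hX in
theorem isDVR_of_coheight_one {y : X} (hy : Order.coheight y = 1) :
    IsDiscreteValuationRing (X.presheaf.stalk y) := by
  haveI := (hX y).2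
  refine isDVR_of_dim_eq_one _ ?_
  rw [ringKrullDim_stalk_eq_coheight, hy]
  rfl

include hX in
theorem coheight_eq_one_of_depth {y : X}
    (h : LocCoh.depth (X.presheaf.stalk y) (X.presheaf.stalk y) = 1) : Order.coheight y = 1 := by
  haveI := (hX y).2
  haveI := isDVR_of_depth_eq_one _ h
  have h1 : ringKrullDim (X.presheaf.stalk y) = 1 :=
    IsPrincipalIdealRing.ringKrullDim_eq_one _ (IsDiscreteValuationRing.not_isField _)
  rw [ringKrullDim_stalk_eq_coheight] at h1
  exact_mod_cast h1

theorem reg_ord_nonneg {y : X} {f : X.functionField} (hf : f ≠ 0) (h : Reg y f) :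
    0 ≤ Scheme.ord f y := by
  by_cases hy : Order.coheight y = 1
  · obtain ⟨a, rfl⟩ := h
    haveI : Ring.KrullDimLE 1 (X.presheaf.stalk y) := krullDimLE_of_coheight_le hy.le
    rw [Scheme.le_ord_iff hy hf]
    exact Ring.ordFrac_ge_one_of_ne_zero fun ha => hf (by rw [ha, map_zero])
  · rw [Scheme.ord_eq_zero_of_coheight_neq_one hy]

include hX in
theorem reg_of_ord_nonneg {y : X} (hy : Order.coheight y = 1) {f : X.functionField} (hf : f ≠ 0)
    (h : 0 ≤ Scheme.ord f y) : Reg y f := by
  haveI := isDVR_of_coheight_one hX hy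
  haveI : Ring.KrullDimLE 1 (X.presheaf.stalk y) := krullDimLE_of_coheight_le hy.le
  rw [Scheme.le_ord_iff hy hf] at h
  have h' : (1 : WithZero (Multiplicative ℤ)) ≤ Ring.ordFrac (X.presheaf.stalk y) f := h
  rw [Ring.ordFrac_eq_valuation_inv, one_le_inv₀ (zero_lt_iff.mpr ((Valuation.ne_zero_iff _).mpr hf))] at h'
  exact IsDiscreteValuationRing.exists_lift_of_le_one h'

include hX in
/-- Regularity is tested in codimension one. -/
theorem reg_of_forall_ord_nonneg {x : X} {f : X.functionField} (hf : f ≠ 0)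
    (h : ∀ y : X, y ⤳ x → Order.coheight y = 1 → 0 ≤ Scheme.ord f y) : Reg x f := by
  by_contra hc
  obtain ⟨y, hy, hd, hfy⟩ := exists_depth_one_point x f hc
  exact hfy (reg_of_ord_nonneg hX (coheight_eq_one_of_depth hX hd) hf
    (h y hy (coheight_eq_one_of_depth hX hd)))

theorem ord_unit_inv (f : CDiv.KUnits X) (y : X) :
    Scheme.ord ((f⁻¹ : CDiv.KUnits X) : X.functionField) y = -Scheme.ord (f : X.functionField) y := by
  have h := Scheme.ord_mul (x := y) (f⁻¹ : CDiv.KUnits X).ne_zero f.ne_zero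
  have h1 : Scheme.ord (1 : X.functionField) y = 0 := by
    have := Scheme.ord_mul (x := y) (one_ne_zero (α := X.functionField)) (one_ne_zero (α := X.functionField))
    rw [one_mul] at this
    omega
  rw [← Units.val_mul, inv_mul_cancel, Units.val_one, h1] at h
  omega

include hX in
theorem germOf_eq_one_of_ord {x : X} (f : CDiv.KUnits X)
    (h : ∀ y : X, y ⤳ x → Order.coheight y = 1 → Scheme.ord (f : X.functionField) y = 0) :
    CDiv.germOf X x f = 1 :=
  (germOf_eq_one_iff x f).mpr ⟨reg_of_forall_ord_nonneg hX f.ne_zero fun y hy hy1 => (h y hy hy1).ge,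
    reg_of_forall_ord_nonneg hX (f⁻¹).ne_zero fun y hy hy1 => by rw [ord_unit_inv, h y hy hy1, neg_zero]⟩

include hX in
theorem isEffective_iff_ord (D : CDiv.Divisor X) :
    (CDiv.IsEffective D ↔
      ∀ x : X, Order.coheight x = 1 → ∀ f : CDiv.KUnits X, D.1 x = CDiv.germOf X x f →
        0 ≤ Scheme.ord (f : X.functionField) x) ∧
    ((∀ x : X, Order.coheight x = 1 → ∀ f : CDiv.KUnits X, D.1 x = CDiv.germOf X x f →
        Scheme.ord (f : X.functionField) x = 0) → D = 1) := by
  refine ⟨⟨fun h x _ f hf => reg_ord_nonneg f.ne_zero ((isEffectiveAt_iff hf).mp (h x)),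
    fun h => isEffective_of_depth_one D fun x hd => ?_⟩, fun h => eq_one_of_depth_one D fun x hd => ?_⟩
  · have hx := coheight_eq_one_of_depth hX hd
    obtain ⟨f, hf⟩ := QuotientGroup.mk_surjective (D.1 x)
    exact (isEffectiveAt_iff hf.symm).mpr (reg_of_ord_nonneg hX hx f.ne_zero (h x hx f hf.symm))
  · have hx := coheight_eq_one_of_depth hX hd
    obtain ⟨f, hf⟩ := QuotientGroup.mk_surjective (D.1 x)
    have h0 := h x hx f hf.symm
    rw [← hf]
    exact (germOf_eq_one_iff x f).mpr ⟨reg_of_ord_nonneg hX hx f.ne_zero h0.ge,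
      reg_of_ord_nonneg hX hx (f⁻¹).ne_zero (by rw [ord_unit_inv, h0, neg_zero])⟩

end Groth.Agent.CDiv6
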