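import Groth.Agent.CDiv6.Normal
import Mathlib.RingTheory.UniqueFactorizationDomain.Basic

/-!
# Local factoriality and divisors of points of codimension one
-/

universe u

open CategoryTheory AlgebraicGeometry TopologicalSpace IsLocalRing

namespace Groth.Agent.CDiv6

variable {X : Scheme.{u}}

/-- The prime of `O_x` defined by a generization. -/
noncomputable def primeOf {x y : X} (h : y ⤳ x) : PrimeSpectrum (X.presheaf.stalk x) :=
  PrimeSpectrum.comap (X.presheaf.stalkSpecializes h).hom (closedPoint (X.presheaf.stalk y))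

theorem fromSpecStalk_primeOf {x y : X} (h : y ⤳ x) : X.fromSpecStalk x (primeOf h) = y := by
  have h1 : (Spec.map (X.presheaf.stalkSpecializes h) ≫ X.fromSpecStalk x) (closedPoint (X.presheaf.stalk y)) = y := by
    rw [Scheme.SpecMap_stalkSpecializes_fromSpecStalk]
    exact Scheme.fromSpecStalk_closedPoint
  exact h1

theorem fromSpecStalk_specializes {x : X} (Q : PrimeSpectrum (X.presheaf.stalk x)) :
    X.fromSpecStalk x Q ⤳ x := by
  have : X.fromSpecStalk x Q ∈ Set.range (X.fromSpecStalk x) := Set.mem_range_self Q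
  rwa [Scheme.range_fromSpecStalk] at this

theorem primeOf_fromSpecStalk {x : X} (Q : PrimeSpectrum (X.presheaf.stalk x)) :
    primeOf (fromSpecStalk_specializes Q) = Q :=
  (X.fromSpecStalk x).isEmbedding.injective (fromSpecStalk_primeOf _)

theorem mem_primeOf {x y : X} (h : y ⤳ x) (g : X.presheaf.stalk x) :
    g ∈ (primeOf h).asIdeal ↔ ¬ IsUnit (X.presheaf.stalkSpecializes h g) := by
  show (X.presheaf.stalkSpecializes h).hom g ∈ maximalIdeal _ ↔ _
  rw [IsLocalRing.mem_maximalIdeal, mem_nonunits_iff]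

theorem height_primeOf {x y : X} (h : y ⤳ x) : (primeOf h).asIdeal.height = Order.coheight y := by
  have hemb := (X.fromSpecStalk x).isEmbedding
  have hle : ∀ {a b : X}, a ≤ b ↔ b ⤳ a := Iff.rfl
  have hle' : ∀ {a b : Spec (X.presheaf.stalk x)}, a ≤ b ↔ b ⤳ a := Iff.rfl
  have hiff : ∀ a b : Spec (X.presheaf.stalk x), X.fromSpecStalk x a ≤ X.fromSpecStalk x b ↔ a ≤ b := by
    intro a b
    rw [hle, hle', hemb.isInducing.specializes_iff]
  have key : Order.coheight (α := Spec (X.presheaf.stalk x)) (primeOf h) = Order.coheight (X.fromSpecStalk x (primeOf h)) := by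
    refine Order.coheight_eq_of_strictMono _ (fun a b hab => ?_) (fun a b hab => ?_) _
    · rw [lt_iff_le_not_ge] at hab ⊢
      rwa [hiff, hiff]
    · have hb : b ⤳ x := (hle.mp hab.le).trans (fromSpecStalk_specializes a)
      obtain ⟨a', rfl⟩ : b ∈ Set.range (X.fromSpecStalk x) := by rwa [Scheme.range_fromSpecStalk]
      refine ⟨a', ?_, rfl⟩
      rw [lt_iff_le_not_ge] at hab ⊢
      rwa [hiff, hiff] at hab
  rw [fromSpecStalk_primeOf] at key
  rw [← key]
  exact idealHeight_eq_coheight _ _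

theorem height_eq_one_of_prime {A : Type*} [CommRing A] [IsDomain A] {P : Ideal A} [P.IsPrime]
    (h : P ≠ ⊥) (hle : P.height ≤ 1) : P.height = 1 := by
  refine le_antisymm hle (Order.one_le_iff_pos.mpr ?_)
  have hfin : P.FiniteHeight := ⟨Or.inr (ne_top_of_le_ne_top (by simp) hle)⟩
  haveI : (⊥ : Ideal A).FiniteHeight := Ideal.finiteHeight_of_le bot_le (Ideal.IsPrime.ne_top (I := P) inferInstance)
  have := Ideal.height_strict_mono_of_isPrime (bot_lt_iff_ne_bot.mpr h)
  rwa [Ideal.height_bot] at this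

theorem eq_of_le_of_height_one {A : Type*} [CommRing A] [IsDomain A] {P Q : Ideal A} [P.IsPrime]
    [Q.IsPrime] (h : P ≠ ⊥) (hPQ : P ≤ Q) (hQ : Q.height = 1) : P = Q := by
  by_contra hne
  have hfin : Q.FiniteHeight := ⟨Or.inr (hQ ▸ by simp)⟩
  haveI : P.FiniteHeight := Ideal.finiteHeight_of_le hPQ (Ideal.IsPrime.ne_top inferInstance)
  haveI : (⊥ : Ideal A).FiniteHeight := Ideal.finiteHeight_of_le bot_le (Ideal.IsPrime.ne_top (I := P) inferInstance)
  have h1 := Ideal.height_strict_mono_of_isPrime (bot_lt_iff_ne_bot.mpr h)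
  have h2 := Ideal.height_strict_mono_of_isPrime (lt_of_le_of_ne hPQ hne)
  rw [Ideal.height_bot] at h1
  rw [hQ] at h2
  exact absurd (ENat.lt_one_iff_eq_zero.mp h2) h1.ne'

variable [IsIntegral X]

theorem algebraMap_specializes {x y : X} (h : y ⤳ x) (g : X.presheaf.stalk x) :
    algebraMap (X.presheaf.stalk y) X.functionField (X.presheaf.stalkSpecializes h g) =
      algebraMap (X.presheaf.stalk x) X.functionField g := by
  show (X.presheaf.stalkSpecializes h ≫ X.presheaf.stalkSpecializes _) g = _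
  rw [TopCat.Presheaf.stalkSpecializes_comp]
  rfl

variable [IsLocallyNoetherian X]

/-- A nonzero element of `O_y` as a rational function. -/
noncomputable def toK {x : X} (g : X.presheaf.stalk x) (hg : g ≠ 0) : CDiv.KUnits X :=
  Units.mk0 (algebraMap (X.presheaf.stalk x) X.functionField g) fun h =>
    hg (IsFractionRing.injective (X.presheaf.stalk x) X.functionField (by rw [h, map_zero]))

theorem ord_toK_nonneg {x y : X} (h : y ⤳ x) {g : X.presheaf.stalk x} (hg : g ≠ 0) :
    0 ≤ Scheme.ord (toK g hg : X.functionField) y :=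
  reg_ord_nonneg (toK g hg).ne_zero ⟨_, algebraMap_specializes h g⟩

theorem ord_toK_eq_zero {x y : X} (h : y ⤳ x) {g : X.presheaf.stalk x} (hg : g ≠ 0)
    (hn : g ∉ (primeOf h).asIdeal) : Scheme.ord (toK g hg : X.functionField) y = 0 := by
  rw [mem_primeOf, not_not] at hn
  obtain ⟨v, hv⟩ := hn
  refine le_antisymm ?_ (ord_toK_nonneg h hg)
  have h1 : 0 ≤ Scheme.ord ((toK g hg)⁻¹ : CDiv.KUnits X).1 y := by
    refine reg_ord_nonneg (Units.ne_zero _) ⟨↑v⁻¹, ?_⟩
    rw [Units.val_inv_eq_inv_val]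
    refine eq_inv_of_mul_eq_one_left ?_
    show algebraMap (X.presheaf.stalk y) X.functionField _ * algebraMap (X.presheaf.stalk x) X.functionField g = 1
    rw [← algebraMap_specializes h g, ← hv, ← map_mul, Units.inv_mul, map_one]
  rw [ord_unit_inv] at h1
  omega

variable (hX : Pi1.IsNormalScheme X)

include hX in
theorem one_le_ord_toK {x y : X} (h : y ⤳ x) (hy : Order.coheight y = 1) {g : X.presheaf.stalk x}
    (hg : g ≠ 0) (hn : g ∈ (primeOf h).asIdeal) : 1 ≤ Scheme.ord (toK g hg : X.functionField) y := by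
  have h0 := ord_toK_nonneg h hg
  by_contra hc
  obtain ⟨b, hb⟩ := reg_of_ord_nonneg hX hy ((toK g hg)⁻¹ : CDiv.KUnits X).ne_zero
    (by rw [ord_unit_inv]; omega)
  refine (mem_primeOf h g).mp hn (IsUnit.of_mul_eq_one b ?_)
  apply IsFractionRing.injective (X.presheaf.stalk y) X.functionField
  rw [map_mul, hb, map_one, algebraMap_specializes]
  exact (toK g hg).mul_inv

theorem ord_div_unit (f g : CDiv.KUnits X) (y : X) :
    Scheme.ord ((f / g : CDiv.KUnits X) : X.functionField) y =
      Scheme.ord (f : X.functionField) y - Scheme.ord (g : X.functionField) y := by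
  rw [div_eq_mul_inv, Units.val_mul, Scheme.ord_mul f.ne_zero (g⁻¹).ne_zero, ord_unit_inv]
  ring

include hX in
/-- The characteristic property of the divisor of a codimension one point at a given stalk gives a prime. -/
theorem ufd_of_divisors (hD : ∀ x₀ : X, Order.coheight x₀ = 1 → ∃ D : CDiv.Divisor X,
      (∀ f : CDiv.KUnits X, D.1 x₀ = CDiv.germOf X x₀ f → Scheme.ord (f : X.functionField) x₀ = 1) ∧
        ∀ x : X, x ≠ x₀ → Order.coheight x = 1 → ∀ f : CDiv.KUnits X, D.1 x = CDiv.germOf X x f →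
          Scheme.ord (f : X.functionField) x = 0) (x : X) :
    UniqueFactorizationMonoid (X.presheaf.stalk x) := by
  refine UniqueFactorizationMonoid.iff_exists_prime_mem_of_isPrime.mpr fun Q hQ hQp => ?_
  obtain ⟨b, hb, hb0⟩ := Submodule.exists_mem_ne_zero_of_ne_bot hQ
  obtain ⟨P, hP, hPQ⟩ := Ideal.exists_minimalPrimes_le (show Ideal.span {b} ≤ Q by simpa [Ideal.span_le] using hb)
  haveI := hP.1.1
  have hP0 : P ≠ ⊥ := fun h => hb0 (by
    have := hP.1.2 (Ideal.mem_span_singleton_self b)
    rw [h] at this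
    simpa using this)
  have hPh := height_eq_one_of_prime hP0 (Ideal.height_le_one_of_isPrincipal_of_mem_minimalPrimes _ P hP)
  let Pp : PrimeSpectrum (X.presheaf.stalk x) := ⟨P, inferInstance⟩
  obtain ⟨y₀, hy₀, hprime⟩ : ∃ (y : X) (h : y ⤳ x), primeOf h = Pp :=
    ⟨_, fromSpecStalk_specializes Pp, primeOf_fromSpecStalk Pp⟩
  have hP' : (primeOf hy₀).asIdeal = P := by rw [hprime]
  have hy1 : Order.coheight y₀ = 1 := by rw [← height_primeOf hy₀, hP', hPh]
  obtain ⟨D, hD0, hD1⟩ := hD y₀ hy1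
  obtain ⟨U, f, hxU, hU⟩ := exists_rep D x
  have hU' : ∀ {z : X}, z ⤳ x → D.1 z = CDiv.germOf X z f := fun hz => hU _ (hz.mem_open U.isOpen hxU)
  have hord : ∀ z : X, z ⤳ x → Order.coheight z = 1 → z ≠ y₀ → Scheme.ord (f : X.functionField) z = 0 :=
    fun z hz h1 hne => hD1 z hne h1 f (hU' hz)
  have hord0 : Scheme.ord (f : X.functionField) y₀ = 1 := hD0 f (hU' hy₀)
  obtain ⟨π, hπ⟩ : Reg x (f : X.functionField) := reg_of_forall_ord_nonneg hX f.ne_zero fun z hz h1 => by
    by_cases hne : z = y₀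
    · subst hne; omega
    · exact (hord z hz h1 hne).ge
  have hπ0 : π ≠ 0 := fun h => f.ne_zero (by rw [← hπ, h, map_zero])
  have hf : toK π hπ0 = f := Units.ext hπ
  have hπP : π ∈ P := by
    by_contra hn
    have := ord_toK_eq_zero hy₀ hπ0 (hP'.symm ▸ hn)
    rw [hf] at this
    omega
  have hspan : P = Ideal.span {π} := by
    refine le_antisymm (fun g hg => ?_) (by rwa [Ideal.span_le, Set.singleton_subset_iff])
    rcases eq_or_ne g 0 with rfl | hg0
    · exact zero_mem _
    have hg1 := one_le_ord_toK hX hy₀ hy1 hg0 (hP'.symm ▸ hg)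
    obtain ⟨c, hc⟩ := reg_of_forall_ord_nonneg hX (x := x) (toK g hg0 / f : CDiv.KUnits X).ne_zero fun z hz h1 => by
      rw [ord_div_unit]
      by_cases hne : z = y₀
      · subst hne; omega
      · have := ord_toK_nonneg hz hg0
        have := hord z hz h1 hne
        omega
    refine Ideal.mem_span_singleton'.mpr ⟨c, IsFractionRing.injective (X.presheaf.stalk x) X.functionField ?_⟩
    rw [map_mul, hc, hπ, ← Units.val_mul, div_mul_cancel]
    rfl
  exact ⟨π, hPQ hπP, (Ideal.span_singleton_prime hπ0).mp (hspan ▸ inferInstance)⟩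

include hX in
/-- A local equation for the closure of a codimension one point. -/
theorem exists_local_equation (hU : ∀ x : X, UniqueFactorizationMonoid (X.presheaf.stalk x)) (x₀ : X)
    (h₀ : Order.coheight x₀ = 1) (x : X) :
    ∃ (U : X.Opens) (f : CDiv.KUnits X), x ∈ U ∧ ∀ y ∈ U, Order.coheight y = 1 →
      ((y = x₀ → Scheme.ord (f : X.functionField) y = 1) ∧
        (y ≠ x₀ → Scheme.ord (f : X.functionField) y = 0)) := by
  have hone : ∀ y : X, Scheme.ord ((1 : CDiv.KUnits X) : X.functionField) y = 0 := fun y => by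
    have := ord_div_unit (X := X) 1 1 y
    rw [div_self'] at this
    omega
  by_cases hx₀ : x₀ ⤳ x
  swap
  · refine ⟨⟨(closure {x₀})ᶜ, isClosed_closure.isOpen_compl⟩, 1,
      fun h => hx₀ (specializes_iff_mem_closure.mpr h),
      fun y hy _ => ⟨fun h => absurd (subset_closure (by simp [h])) hy, fun _ => hone y⟩⟩
  haveI := hU x
  have hP1 : (primeOf hx₀).asIdeal.height = 1 := by rw [height_primeOf, h₀]
  have hP0 : (primeOf hx₀).asIdeal ≠ ⊥ := fun h => by
    rw [h, Ideal.height_bot] at hP1; exact zero_ne_one hP1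
  obtain ⟨π, hπP, hπ⟩ := (primeOf hx₀).isPrime.exists_mem_prime_of_ne_bot hP0
  have hπspan : Ideal.span {π} = (primeOf hx₀).asIdeal := by
    haveI := (Ideal.span_singleton_prime hπ.ne_zero).mpr hπ
    exact eq_of_le_of_height_one (by simpa using hπ.ne_zero)
      (by rwa [Ideal.span_le, Set.singleton_subset_iff]) hP1
  set f := toK π hπ.ne_zero with hf
  have hzero : ∀ y : X, y ⤳ x → Order.coheight y = 1 → y ≠ x₀ → Scheme.ord (f : X.functionField) y = 0 := by
    intro y hy hy1 hne
    refine ord_toK_eq_zero hy hπ.ne_zero fun hmem => hne ?_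
    have : (primeOf hx₀).asIdeal = (primeOf hy).asIdeal := eq_of_le_of_height_one hP0
      (hπspan ▸ by rwa [Ideal.span_le, Set.singleton_subset_iff]) (by rw [height_primeOf, hy1])
    rw [← fromSpecStalk_primeOf hy, ← fromSpecStalk_primeOf hx₀, PrimeSpectrum.ext this]
  have hf₀ : Scheme.ord (f : X.functionField) x₀ = 1 := by
    haveI := isDVR_of_coheight_one hX h₀
    haveI : Ring.KrullDimLE 1 (X.presheaf.stalk x₀) := krullDimLE_of_coheight_le h₀.le
    obtain ⟨ϖ, hϖ⟩ := IsDiscreteValuationRing.exists_irreducible (X.presheaf.stalk x₀)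
    have hK : algebraMap (X.presheaf.stalk x₀) X.functionField ϖ ≠ 0 := fun h =>
      hϖ.ne_zero (IsFractionRing.injective (X.presheaf.stalk x₀) X.functionField (by rw [h, map_zero]))
    have h1 : Scheme.ord (algebraMap (X.presheaf.stalk x₀) X.functionField ϖ) x₀ = 1 := by
      rw [Scheme.ord_eq_iff h₀ hK]
      exact Ring.ordFrac_irreducible hϖ
    obtain ⟨a, b, hb, hab⟩ := IsFractionRing.div_surjective (A := X.presheaf.stalk x)
      (algebraMap (X.presheaf.stalk x₀) X.functionField ϖ)
    have hb0 := nonZeroDivisors.ne_zero hb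
    have ha0 : a ≠ 0 := fun h => by rw [h, map_zero, zero_div] at hab; exact hK hab.symm
    have hpow : ∀ {c : X.presheaf.stalk x} (hc : c ≠ 0), ∃ i : ℕ,
        Scheme.ord (toK c hc : X.functionField) x₀ = i * Scheme.ord (f : X.functionField) x₀ := by
      intro c hc
      obtain ⟨i, c', hc', rfl⟩ := WfDvdMonoid.max_power_factor hc hπ.irreducible
      refine ⟨i, ?_⟩
      have hc'0 : c' ≠ 0 := right_ne_zero_of_mul hc
      have hsplit : toK (π ^ i * c') hc = f ^ i * toK c' hc'0 := Units.ext (by simp [toK, hf])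
      have hz := ord_toK_eq_zero hx₀ hc'0 (fun hm => hc' (Ideal.mem_span_singleton.mp (hπspan.symm ▸ hm)))
      rw [hsplit, Units.val_mul, Scheme.ord_mul (f ^ i).ne_zero (toK c' hc'0).ne_zero, hz, add_zero]
      clear hsplit hz hc
      induction i with
      | zero => simpa using hone x₀
      | succ i ih =>
        rw [pow_succ, Units.val_mul, Scheme.ord_mul (f ^ i).ne_zero f.ne_zero, ih]
        push_cast
        ring
    obtain ⟨i, hi⟩ := hpow ha0
    obtain ⟨j, hj⟩ := hpow hb0
    have hq : ((toK a ha0 / toK b hb0 : CDiv.KUnits X) : X.functionField) =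
        algebraMap (X.presheaf.stalk x₀) X.functionField ϖ := by
      rw [Units.val_div_eq_div_val]
      exact hab
    rw [← hq, ord_div_unit, hi, hj, ← sub_mul] at h1
    rcases Int.eq_one_or_neg_one_of_mul_eq_one' h1 with ⟨-, h⟩ | ⟨-, h⟩
    · exact h
    · have := ord_toK_nonneg hx₀ hπ.ne_zero
      rw [← hf] at this
      omega
  -- shrink to avoid the finitely many other zeros
  obtain ⟨_, ⟨V, hV, rfl⟩, hxV, -⟩ :=
    X.isBasis_affineOpens.exists_subset_of_mem_open (Set.mem_univ x) isOpen_univ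
  haveI : IsNoetherianRing Γ(X, V) := IsLocallyNoetherian.component_noetherian ⟨V, hV⟩
  haveI : NoetherianSpace ↥(V : Set X) := by
    rw [← hV.range_fromSpec]; exact NoetherianSpace.range _ hV.fromSpec.continuous
  set S := (V : Set X) ∩ CDiv.supp (CDiv.div f) with hS
  haveI : NoetherianSpace ↥S :=
    (noetherianSpace_set_iff _).mpr fun t ht =>
      (noetherianSpace_set_iff (V : Set X)).mp inferInstance t (ht.trans Set.inter_subset_left)
  set bad := {y : X | y ∈ V ∧ Order.coheight y = 1 ∧ y ≠ x₀ ∧ Scheme.ord (f : X.functionField) y ≠ 0}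
  have hbadS : ∀ y ∈ bad, y ∈ S := fun y hy => ⟨hy.1, fun h => hy.2.2.2 (by
    obtain ⟨h1, h2⟩ := (germOf_eq_one_iff y f).mp h
    have := reg_ord_nonneg f.ne_zero h1
    have h3 := reg_ord_nonneg (f⁻¹).ne_zero h2
    rw [ord_unit_inv] at h3
    omega)⟩
  have hfin : bad.Finite := by
    have hmem : ∀ y : bad, closure ({⟨y.1, hbadS y.1 y.2⟩} : Set ↥S) ∈ irreducibleComponents ↥S := by
      rintro ⟨y, hy⟩
      refine ⟨isIrreducible_singleton.closure, fun C hC hle => ?_⟩
      have hirr : IsIrreducible (Subtype.val '' C : Set X) := hC.image _ continuous_subtype_val.continuousOn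
      obtain ⟨w, hw⟩ := QuasiSober.sober hirr.closure isClosed_closure
      have hyC : y ∈ closure (Subtype.val '' C : Set X) :=
        subset_closure ⟨⟨y, hbadS y hy⟩, hle (subset_closure rfl), rfl⟩
      have hwy : w ⤳ y := hw.specializes hyC
      have hws : w ∈ CDiv.supp (CDiv.div f) := (isClosed_supp _).closure_subset_iff.mpr
        (by rintro _ ⟨c, -, rfl⟩; exact c.2.2) hw.mem
      have hwy' : y = w := by
        by_contra hne
        have hwη : genericPoint X ≠ w := fun h => genericPoint_notMem_supp (CDiv.div f) (h ▸ hws)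
        have hlt1 : y < w := lt_iff_le_not_ge.mpr ⟨hwy, fun h => hne (Specializes.antisymm (h : y ⤳ w) hwy).eq⟩
        have hlt2 : w < genericPoint X := lt_iff_le_not_ge.mpr
          ⟨(genericPoint_spec X).specializes trivial, fun h => hwη
            ((Specializes.antisymm ((genericPoint_spec X).specializes trivial) (h : w ⤳ genericPoint X)).eq)⟩
        have h2 := Order.coheight_add_one_le hlt1
        have h3 := Order.coheight_add_one_le hlt2
        rw [hy.2.1] at h2
        have h4 : (1 : ℕ∞) ≤ Order.coheight w := le_trans le_add_self h3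
        have h5 : (1 : ℕ∞) + 1 ≤ 1 := le_trans (add_le_add h4 le_rfl) h2
        exact absurd h5 (by norm_num)
      intro c hc
      rw [closure_subtype, Set.image_singleton, ← specializes_iff_mem_closure]
      exact (congrArg (· ⤳ c.1) hwy').mpr (hw.specializes (subset_closure ⟨c, hc, rfl⟩))
    haveI : Finite ↥(irreducibleComponents ↥S) := NoetherianSpace.finite_irreducibleComponents.to_subtype
    refine Set.finite_coe_iff.mp (Finite.of_injective (fun y : bad => (⟨_, hmem y⟩ : irreducibleComponents ↥S)) ?_)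
    intro y z h
    have h' := congrArg Subtype.val h
    have := IsGenericPoint.eq (isGenericPoint_closure : IsGenericPoint (⟨y.1, hbadS y.1 y.2⟩ : ↥S) _)
      (show IsGenericPoint (⟨z.1, hbadS z.1 z.2⟩ : ↥S) _ from h'.symm)
    exact Subtype.ext (congrArg (fun s : ↥S => (s : X)) this)
  refine ⟨⟨(V : Set X) \ ⋃ y ∈ bad, closure {y},
      V.isOpen.sdiff (hfin.isClosed_biUnion fun _ _ => isClosed_closure)⟩, f, ⟨hxV, ?_⟩,
    fun y hy hy1 => ⟨fun h => h ▸ hf₀, fun hne => ?_⟩⟩
  · intro h
    obtain ⟨y, hy, hyx⟩ := Set.mem_iUnion₂.mp h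
    exact hy.2.2.2 (hzero y (specializes_iff_mem_closure.mpr hyx) hy.2.1 hy.2.2.1)
  · by_contra hc
    exact hy.2 (Set.mem_iUnion₂.mpr ⟨y, ⟨hy.1, hy1, hne, hc⟩, subset_closure rfl⟩)

include hX in
theorem divisors_of_ufd (hU : ∀ x : X, UniqueFactorizationMonoid (X.presheaf.stalk x)) (x₀ : X)
    (h₀ : Order.coheight x₀ = 1) :
    ∃ D : CDiv.Divisor X,
      (∀ f : CDiv.KUnits X, D.1 x₀ = CDiv.germOf X x₀ f → Scheme.ord (f : X.functionField) x₀ = 1) ∧
        ∀ x : X, x ≠ x₀ → Order.coheight x = 1 → ∀ f : CDiv.KUnits X, D.1 x = CDiv.germOf X x f →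
          Scheme.ord (f : X.functionField) x = 0 := by
  choose U g hxU hg using exists_local_equation hX hU x₀ h₀
  have hD : ∀ x z : X, z ∈ U x → CDiv.germOf X z (g z) = CDiv.germOf X z (g x) := by
    intro x z hz
    have : CDiv.germOf X z (g z / g x) = 1 := germOf_eq_one_of_ord hX _ fun y hy hy1 => by
      rw [ord_div_unit]
      obtain ⟨a1, a2⟩ := hg z y (hy.mem_open (U z).isOpen (hxU z)) hy1
      obtain ⟨b1, b2⟩ := hg x y (hy.mem_open (U x).isOpen hz) hy1
      by_cases h : y = x₀
      · rw [a1 h, b1 h, sub_self]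
      · rw [a2 h, b2 h, sub_self]
    rwa [CDiv.germOf, QuotientGroup.mk_div, div_eq_one] at this
  have heq : ∀ (y : X) (f : CDiv.KUnits X), CDiv.germOf X y (g y) = CDiv.germOf X y f →
      Scheme.ord (f : X.functionField) y = Scheme.ord (g y : X.functionField) y := by
    intro y f h
    have h1 : CDiv.germOf X y (g y / f) = 1 := by
      rw [CDiv.germOf, QuotientGroup.mk_div, div_eq_one]; exact h
    obtain ⟨r1, r2⟩ := (germOf_eq_one_iff y _).mp h1
    have h2 := reg_ord_nonneg (g y / f).ne_zero r1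
    have h3 := reg_ord_nonneg ((g y / f)⁻¹).ne_zero r2
    rw [ord_unit_inv, ord_div_unit] at h3
    rw [ord_div_unit] at h2
    omega
  refine ⟨⟨fun x => CDiv.germOf X x (g x), fun x => ⟨U x, g x, hxU x, fun y hy => hD x y hy⟩⟩,
    fun f hf => ?_, fun x hx hx1 f hf => ?_⟩
  · rw [heq x₀ f hf]
    exact (hg x₀ x₀ (hxU x₀) h₀).1 rfl
  · rw [heq x f hf]
    exact (hg x x (hxU x) hx1).2 hx

end Groth.Agent.CDiv6
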