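import Groth.Agent.Alg6.AssDepth
import Groth.Agent.Alg6.LocLoc
import Groth.Prelude.Def_CDiv
import Mathlib.AlgebraicGeometry.Noetherian
import Mathlib.AlgebraicGeometry.Stalk
import Mathlib.RingTheory.Ideal.MinimalPrime.Basic
import Mathlib.Topology.KrullDimension

/-!
# Cartier divisors on integral locally Noetherian schemes
-/

universe u

open CategoryTheory AlgebraicGeometry TopologicalSpace IsLocalRing

namespace Groth.Agent.CDiv6

section Alg

variable {A K : Type*} [CommRing A] [IsDomain A] [IsNoetherianRing A] [Field K] [Algebra A K]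
  [IsFractionRing A K]

/-- A fraction not defined at `p` is not defined at some depth-one prime below `p`. -/
theorem exists_depth_one_prime (p : Ideal A) [hp : p.IsPrime] (f : K)
    (hf : ∀ c : A, c ∉ p → ∀ a : A, algebraMap A K c * f ≠ algebraMap A K a) :
    ∃ q : PrimeSpectrum A, q.asIdeal ≤ p ∧
      LocCoh.depth (Localization.AtPrime q.asIdeal) (LocalizedModule q.asIdeal.primeCompl A) = 1 ∧
      ∀ c : A, c ∉ q.asIdeal → ∀ a : A, algebraMap A K c * f ≠ algebraMap A K a := by
  obtain ⟨a, b, hb, rfl⟩ := IsFractionRing.div_surjective (A := A) f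
  have hb0 : b ≠ 0 := nonZeroDivisors.ne_zero hb
  have hbK : algebraMap A K b ≠ 0 := IsFractionRing.to_map_ne_zero_of_mem_nonZeroDivisors hb
  have key : ∀ c : A, (c • (Submodule.Quotient.mk a : QuotSMulTop b A) = 0) ↔
      ∃ a' : A, algebraMap A K c * (algebraMap A K a / algebraMap A K b) = algebraMap A K a' := by
    intro c
    rw [← Submodule.Quotient.mk_smul, Alg6.mem_pointwise_smul_top_iff]
    refine exists_congr fun a' => ?_
    rw [← mul_div_assoc, div_eq_iff hbK, ← map_mul, ← map_mul,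
      (IsFractionRing.injective A K).eq_iff, smul_eq_mul, smul_eq_mul]
    constructor <;> intro h <;> linear_combination -h
  let z : QuotSMulTop b A := Submodule.Quotient.mk a
  let N : Submodule A (QuotSMulTop b A) := Submodule.span A {z}
  have hann : N.annihilator ≤ p := by
    intro c hc
    by_contra hcp
    rw [Submodule.mem_annihilator_span_singleton] at hc
    obtain ⟨a', ha'⟩ := (key c).mp hc
    exact hf c hcp a' ha'
  obtain ⟨q, hq, hqp⟩ := Ideal.exists_minimalPrimes_le hann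
  haveI : q.IsPrime := hq.1.1
  have hann' : Module.annihilator A N = N.annihilator := rfl
  have hassN : q ∈ associatedPrimes A N :=
    Module.associatedPrimes.minimalPrimes_annihilator_subset_associatedPrimes A N (hann' ▸ hq)
  have hass : q ∈ associatedPrimes A (QuotSMulTop b A) :=
    associatedPrimes.subset_of_injective (f := N.subtype) Subtype.val_injective hassN
  have hbq : b ∈ q := hq.1.2 (by
    rw [Submodule.mem_annihilator_span_singleton, ← Submodule.Quotient.mk_smul,
      Alg6.mem_pointwise_smul_top_iff]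
    exact ⟨a, rfl⟩)
  have hreg : IsSMulRegular A b := fun u v h => mul_left_cancel₀ hb0 h
  refine ⟨⟨q, inferInstance⟩, hqp, le_antisymm ?_ ?_, fun c hc a' ha' => ?_⟩
  · have h2 := mt (Alg6.two_le_depth_atPrime_iff q hbq hreg).mp (fun h => h hass)
    rw [not_le, ← one_add_one_eq_two] at h2
    exact ENat.lt_add_one_iff (by simp) |>.mp h2
  · refine (Alg6.one_le_depth_atPrime_iff q).mpr fun h => ?_
    exact Alg6.isSMulRegular_iff_forall_ass.mp hreg q h hbq
  · refine hc (hq.1.2 ?_)
    rw [Submodule.mem_annihilator_span_singleton]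
    exact (key c).mpr ⟨a', ha'⟩

end Alg

variable {X : Scheme.{u}} [IsIntegral X]

/-- `f` is regular at `y`. -/
def Reg (y : X) (f : X.functionField) : Prop :=
  ∃ a : X.presheaf.stalk y, algebraMap (X.presheaf.stalk y) X.functionField a = f

theorem isOpen_reg (f : X.functionField) : IsOpen {y : X | Reg y f} := by
  rw [isOpen_iff_forall_mem_open]
  rintro y ⟨a, rfl⟩
  obtain ⟨U, hy, s, rfl⟩ := X.presheaf.exists_germ_eq a
  refine ⟨U, fun z hz => ?_, U.isOpen, hy⟩
  haveI : Nonempty U := ⟨⟨y, hy⟩⟩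
  refine ⟨X.presheaf.germ U z hz s, ?_⟩
  rw [Scheme.algebraMap_germ_eq_germToFunctionField, Scheme.algebraMap_germ_eq_germToFunctionField]

theorem germOf_eq_one_iff (y : X) (f : CDiv.KUnits X) :
    CDiv.germOf X y f = 1 ↔ Reg y (f : X.functionField) ∧ Reg y ((f⁻¹ : CDiv.KUnits X) : X.functionField) := by
  rw [CDiv.germOf, QuotientGroup.eq_one_iff]
  constructor
  · rintro ⟨v, rfl⟩
    exact ⟨⟨v, rfl⟩, ⟨(v⁻¹ : (X.presheaf.stalk y)ˣ), by rw [← map_inv]; rfl⟩⟩
  · rintro ⟨⟨a, ha⟩, ⟨b, hb⟩⟩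
    have hab : a * b = 1 := IsFractionRing.injective (X.presheaf.stalk y) X.functionField (by
      rw [map_mul, ha, hb, map_one, ← Units.val_mul, mul_inv_cancel, Units.val_one])
    exact ⟨⟨a, b, hab, by rw [mul_comm, hab]⟩, Units.ext ha⟩

theorem isEffectiveAt_iff {D : CDiv.Divisor X} {y : X} {f : CDiv.KUnits X}
    (h : D.1 y = CDiv.germOf X y f) : CDiv.IsEffectiveAt D y ↔ Reg y (f : X.functionField) := by
  constructor
  · rintro ⟨a, ha, he⟩
    rw [h, CDiv.germOf, CDiv.germOf, eq_comm, QuotientGroup.eq] at he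
    obtain ⟨v, hv⟩ := he
    refine ⟨a * v, ?_⟩
    rw [map_mul]
    have := congrArg Units.val hv
    simp only [Units.coe_map, Units.val_mul, Units.val_inv_eq_inv_val, Units.val_mk0] at this
    rw [show algebraMap (X.presheaf.stalk y) X.functionField v = (algebraMap _ X.functionField a)⁻¹ * f from this,
      ← mul_assoc, mul_inv_cancel₀ ha, one_mul]
  · rintro ⟨a, ha⟩
    refine ⟨a, ha ▸ f.ne_zero, h.trans ?_⟩
    congr 1
    exact Units.ext ha.symm

theorem exists_rep (D : CDiv.Divisor X) (x : X) :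
    ∃ (U : X.Opens) (f : CDiv.KUnits X), x ∈ U ∧ ∀ y ∈ U, D.1 y = CDiv.germOf X y f :=
  D.2 x

theorem isClosed_supp (D : CDiv.Divisor X) : IsClosed (CDiv.supp D) := by
  rw [← isOpen_compl_iff, isOpen_iff_forall_mem_open]
  intro x hx
  obtain ⟨U, f, hxU, hU⟩ := exists_rep D x
  have hx' : D.1 x = 1 := not_not.mp hx
  rw [hU x hxU, germOf_eq_one_iff] at hx'
  refine ⟨(U : Set X) ∩ ({y | Reg y (f : X.functionField)} ∩
      {y | Reg y ((f⁻¹ : CDiv.KUnits X) : X.functionField)}), ?_,
    U.isOpen.inter ((isOpen_reg _).inter (isOpen_reg _)), hxU, hx'⟩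
  rintro y ⟨hyU, hy⟩
  exact not_not.mpr ((hU y hyU).trans ((germOf_eq_one_iff y f).mpr hy))

theorem reg_genericPoint (f : X.functionField) : Reg (genericPoint X) f := by
  refine ⟨f, ?_⟩
  show (X.presheaf.stalkSpecializes _).hom f = f
  rw [TopCat.Presheaf.stalkSpecializes_refl]
  rfl

theorem germ_genericPoint (d : CDiv.Germ X (genericPoint X)) : d = 1 := by
  obtain ⟨f, rfl⟩ := QuotientGroup.mk_surjective d
  exact (germOf_eq_one_iff _ f).mpr ⟨reg_genericPoint _, reg_genericPoint _⟩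

theorem genericPoint_notMem_supp (D : CDiv.Divisor X) : genericPoint X ∉ CDiv.supp D :=
  not_not.mpr (germ_genericPoint _)

variable [IsLocallyNoetherian X]

/-- A rational function not regular at `x` is not regular at some depth-one generization. -/
theorem exists_depth_one_point (x : X) (f : X.functionField) (hf : ¬ Reg x f) :
    ∃ y : X, y ⤳ x ∧ LocCoh.depth (X.presheaf.stalk y) (X.presheaf.stalk y) = 1 ∧ ¬ Reg y f := by
  obtain ⟨_, ⟨U, hU, rfl⟩, hxU, -⟩ :=
    X.isBasis_affineOpens.exists_subset_of_mem_open (Set.mem_univ x) isOpen_univ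
  haveI : Nonempty U := ⟨⟨x, hxU⟩⟩
  haveI : IsNoetherianRing Γ(X, U) := IsLocallyNoetherian.component_noetherian ⟨U, hU⟩
  haveI := functionField_isFractionRing_of_isAffineOpen X U hU
  have hloc : ∀ (y : U), ¬ Reg y.1 f → ∀ c : Γ(X, U), c ∉ (hU.primeIdealOf y).asIdeal →
      ∀ a, algebraMap Γ(X, U) X.functionField c * f ≠ algebraMap Γ(X, U) X.functionField a := by
    intro y hy c hc a he
    haveI := hU.isLocalization_stalk y
    apply hy
    obtain ⟨v, hv⟩ := IsLocalization.map_units (X.presheaf.stalk y.1) (⟨c, hc⟩ : (hU.primeIdealOf y).asIdeal.primeCompl)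
    refine ⟨algebraMap Γ(X, U) _ a * ↑v⁻¹, ?_⟩
    rw [map_mul, ← IsScalarTower.algebraMap_apply, ← he,
      IsScalarTower.algebraMap_apply Γ(X, U) (X.presheaf.stalk y.1) X.functionField c, ← hv,
      mul_right_comm, ← map_mul, Units.mul_inv, map_one, one_mul]
  obtain ⟨q, hqp, hdepth, hq⟩ := exists_depth_one_prime (hU.primeIdealOf ⟨x, hxU⟩).asIdeal f
    (hloc ⟨x, hxU⟩ hf)
  have hyU : hU.fromSpec q ∈ U := by
    rw [← SetLike.mem_coe, ← hU.range_fromSpec]
    exact Set.mem_range_self q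
  haveI := hU.isOpenImmersion_fromSpec
  have hq' : hU.primeIdealOf ⟨hU.fromSpec q, hyU⟩ = q :=
    hU.fromSpec.isOpenEmbedding.injective (hU.fromSpec_primeIdealOf _)
  letI := X.presheaf.algebra_section_stalk (U := U) ⟨hU.fromSpec q, hyU⟩
  haveI : IsLocalization.AtPrime (X.presheaf.stalk (hU.fromSpec q)) q.asIdeal := by
    have := hU.isLocalization_stalk ⟨hU.fromSpec q, hyU⟩
    rwa [hq'] at this
  refine ⟨hU.fromSpec q, ?_, ?_, ?_⟩
  · have hsp : q ⤳ hU.primeIdealOf ⟨x, hxU⟩ := (PrimeSpectrum.le_iff_specializes _ _).mp hqp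
    have := hsp.map hU.fromSpec.continuous
    rwa [hU.fromSpec_primeIdealOf] at this
  · exact (Alg6.depth_localized_eq q.asIdeal _
      (Algebra.linearMap Γ(X, U) (X.presheaf.stalk (hU.fromSpec q)))).trans hdepth
  · rintro ⟨s, hs⟩
    obtain ⟨⟨a, c⟩, hac⟩ := IsLocalization.surj q.asIdeal.primeCompl s
    refine hq c.1 c.2 a ?_
    haveI := functionField_isScalarTower X U ⟨hU.fromSpec q, hyU⟩
    rw [IsScalarTower.algebraMap_apply Γ(X, U) (X.presheaf.stalk (hU.fromSpec q)) X.functionField,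
      IsScalarTower.algebraMap_apply Γ(X, U) (X.presheaf.stalk (hU.fromSpec q)) X.functionField,
      ← hs, ← map_mul, ← hac]
    ring_nf

theorem isEffective_of_depth_one (D : CDiv.Divisor X)
    (h : ∀ x : X, LocCoh.depth (X.presheaf.stalk x) (X.presheaf.stalk x) = 1 → CDiv.IsEffectiveAt D x) :
    CDiv.IsEffective D := by
  intro x
  obtain ⟨U, f, hxU, hU⟩ := exists_rep D x
  rw [isEffectiveAt_iff (hU x hxU)]
  by_contra hf
  obtain ⟨y, hy, hd, hfy⟩ := exists_depth_one_point x _ hf
  exact hfy ((isEffectiveAt_iff (hU y (hy.mem_open U.isOpen hxU))).mp (h y hd))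

theorem exists_depth_one_supp (D : CDiv.Divisor X) {x : X} (hx : x ∈ CDiv.supp D) :
    ∃ y : X, y ⤳ x ∧ LocCoh.depth (X.presheaf.stalk y) (X.presheaf.stalk y) = 1 ∧ y ∈ CDiv.supp D := by
  obtain ⟨U, f, hxU, hU⟩ := exists_rep D x
  have h : ¬ (Reg x (f : X.functionField) ∧ Reg x ((f⁻¹ : CDiv.KUnits X) : X.functionField)) := fun h =>
    hx ((hU x hxU).trans ((germOf_eq_one_iff x f).mpr h))
  rw [not_and_or] at h
  rcases h with h | h <;> obtain ⟨y, hy, hd, hfy⟩ := exists_depth_one_point x _ h <;>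
    refine ⟨y, hy, hd, fun he => hfy ?_⟩ <;>
    rw [hU y (hy.mem_open U.isOpen hxU), germOf_eq_one_iff] at he
  exacts [he.1, he.2]

theorem eq_one_of_depth_one (D : CDiv.Divisor X)
    (h : ∀ x : X, LocCoh.depth (X.presheaf.stalk x) (X.presheaf.stalk x) = 1 → D.1 x = 1) : D = 1 := by
  refine Subtype.ext (funext fun x => ?_)
  by_contra hx
  obtain ⟨y, -, hd, hy⟩ := exists_depth_one_supp D (x := x) hx
  exact hy (h y hd)

theorem depth_eq_one_of_maximal (D : CDiv.Divisor X) {x : X} (hx : x ∈ CDiv.supp D)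
    (hmax : ∀ z : X, z ∈ CDiv.supp D → z ⤳ x → z = x) :
    LocCoh.depth (X.presheaf.stalk x) (X.presheaf.stalk x) = 1 := by
  obtain ⟨y, hy, hd, hy'⟩ := exists_depth_one_supp D hx
  exact (hmax y hy' hy) ▸ hd

section DimOne

variable (hdim : topologicalKrullDim X ≤ 1)
include hdim

omit [IsLocallyNoetherian X] in
theorem isClosed_singleton {y : X} (hy : y ≠ genericPoint X) : IsClosed ({y} : Set X) := by
  rw [isClosed_iff_clusterPt]
  intro z hz
  have hz' : y ⤳ z := specializes_iff_mem_closure.mpr (mem_closure_iff_clusterPt.mpr hz)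
  by_contra hne
  have hne' : z ≠ y := hne
  let I : X → TopologicalSpace.IrreducibleCloseds X := fun w =>
    ⟨closure {w}, isIrreducible_singleton.closure, isClosed_closure⟩
  have hlt : ∀ {v w : X}, w ⤳ v → v ≠ w → I v < I w := by
    intro v w hvw hne
    refine lt_of_le_of_ne (hvw.closure_subset) fun h => hne ?_
    have h' : closure ({v} : Set X) = closure {w} :=
      congrArg (fun S : TopologicalSpace.IrreducibleCloseds X => (S : Set X)) h
    exact (IsGenericPoint.eq (by exact h') (isGenericPoint_closure : IsGenericPoint w (closure {w})))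
  have h1 : I z < I y := hlt hz' hne'
  have h2 : I y < I (genericPoint X) := hlt ((genericPoint_spec X).specializes trivial) hy
  let S : LTSeries (TopologicalSpace.IrreducibleCloseds X) :=
    ⟨2, ![I z, I y, I (genericPoint X)], fun i => by fin_cases i <;> assumption⟩
  have := (Order.LTSeries.length_le_krullDim S).trans hdim
  simp [S] at this

theorem discrete_of_closed {E : Set X} (hE : IsClosed E) (hη : genericPoint X ∉ E) :
    DiscreteTopology ↥E := by
  rw [discreteTopology_subtype_iff']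
  intro x hx
  obtain ⟨_, ⟨U, hU, rfl⟩, hxU, -⟩ :=
    X.isBasis_affineOpens.exists_subset_of_mem_open (Set.mem_univ x) isOpen_univ
  haveI : IsNoetherianRing Γ(X, U) := IsLocallyNoetherian.component_noetherian ⟨U, hU⟩
  haveI : NoetherianSpace ↥(U : Set X) := by
    rw [← hU.range_fromSpec]; exact NoetherianSpace.range _ hU.fromSpec.continuous
  haveI : NoetherianSpace ↥((U : Set X) ∩ E) :=
    noetherianSpace_set_iff _ |>.mpr fun t ht =>
      (noetherianSpace_set_iff (U : Set X)).mp inferInstance t (ht.trans Set.inter_subset_left)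
  haveI : Finite ↥((U : Set X) ∩ E) := by
    rw [← Set.finite_univ_iff, ← sUnion_irreducibleComponents]
    refine Set.Finite.sUnion NoetherianSpace.finite_irreducibleComponents fun C hC => ?_
    have hirr : IsIrreducible (Subtype.val '' C : Set X) :=
      hC.1.image _ continuous_subtype_val.continuousOn
    obtain ⟨w, hw⟩ := QuasiSober.sober hirr.closure isClosed_closure
    have hwE : w ∈ E := hE.closure_subset_iff.mpr
      (by rintro _ ⟨c, -, rfl⟩; exact c.2.2) hw.mem
    have hsub : (Subtype.val '' C : Set X) ⊆ {w} := by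
      have h := hw.def.symm ▸ (subset_closure : (Subtype.val '' C : Set X) ⊆ _)
      rwa [(isClosed_singleton hdim fun h => hη (h ▸ hwE)).closure_eq] at h
    exact Set.Finite.of_finite_image ((Set.finite_singleton w).subset hsub) Subtype.val_injective.injOn
  have hfin : (((U : Set X) ∩ E) \ {x}).Finite := (Set.toFinite ((U : Set X) ∩ E)).subset Set.diff_subset
  have hcl : IsClosed (((U : Set X) ∩ E) \ {x}) := by
    rw [← Set.biUnion_of_singleton (((U : Set X) ∩ E) \ {x})]
    exact hfin.isClosed_biUnion fun w hw => isClosed_singleton hdim fun h => hη (h ▸ hw.1.2)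
  refine ⟨(U : Set X) \ (((U : Set X) ∩ E) \ {x}), U.isOpen.sdiff hcl, ?_⟩
  ext w
  constructor
  · rintro ⟨⟨hwU, hw⟩, hwE⟩
    by_contra hne
    exact hw ⟨⟨hwU, hwE⟩, hne⟩
  · rintro rfl
    exact ⟨⟨hxU, fun h => h.2 rfl⟩, hx⟩

theorem exists_divisor_of_germs {E : Set X} (hE : IsClosed E) (hEd : DiscreteTopology ↥E)
    (d : ∀ x : X, CDiv.Germ X x) :
    ∃! D : CDiv.Divisor X, CDiv.supp D ⊆ E ∧ ∀ x ∈ E, D.1 x = d x := by
  classical
  refine ⟨⟨fun x => if x ∈ E then d x else 1, fun x => ?_⟩, ⟨fun x hx => ?_, fun x hx => if_pos hx⟩, ?_⟩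
  · by_cases hx : x ∈ E
    · obtain ⟨f, hf⟩ := QuotientGroup.mk_surjective (d x)
      obtain ⟨V, hV, hVE⟩ := discreteTopology_subtype_iff'.mp hEd x hx
      have hS := isClosed_supp (CDiv.div f)
      obtain ⟨W, hW, hWS⟩ : ∃ W : Set X, IsOpen W ∧ x ∈ W ∧ W ∩ CDiv.supp (CDiv.div f) ⊆ {x} := by
        by_cases hxs : x ∈ CDiv.supp (CDiv.div f)
        · obtain ⟨W, hW, hW'⟩ := discreteTopology_subtype_iff'.mp
            (discrete_of_closed hdim hS (genericPoint_notMem_supp _)) x hxs
          exact ⟨W, hW, (hW'.ge rfl).1, hW'.le⟩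
        · exact ⟨_, hS.isOpen_compl, hxs, fun w hw => absurd hw.2 hw.1⟩
      refine ⟨⟨V ∩ W, hV.inter hW⟩, f, ⟨(hVE.ge rfl).1, hWS.1⟩, fun y hy => ?_⟩
      by_cases hyx : y = x
      · subst hyx
        show (if _ then _ else _) = _
        rw [if_pos hx]
        exact hf.symm
      · have hyE : y ∉ E := fun h => hyx (hVE.le ⟨hy.1, h⟩)
        show (if _ then _ else _) = _
        rw [if_neg hyE]
        exact (not_not.mp (fun h => hyx (hWS.2 ⟨hy.2, h⟩))).symm
    · exact ⟨⟨Eᶜ, hE.isOpen_compl⟩, 1, hx, fun y hy => by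
        show (if y ∈ E then d y else 1) = _
        rw [if_neg hy]; simp [CDiv.germOf]⟩
  · by_contra h
    exact hx (if_neg h)
  · rintro D' ⟨hs, hd⟩
    refine Subtype.ext (funext fun x => ?_)
    show D'.1 x = if x ∈ E then d x else 1
    split_ifs with hx
    · exact hd x hx
    · exact not_not.mp fun h => hx (hs h)

theorem exists_effective_decomposition (D : CDiv.Divisor X) :
    ∃ D' D'' : CDiv.Divisor X, CDiv.IsEffective D' ∧ CDiv.IsEffective D'' ∧ D = D' * D''⁻¹ ∧
      CDiv.supp D' ⊆ CDiv.supp D ∧ CDiv.supp D'' ⊆ CDiv.supp D := by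
  classical
  have hd : ∀ x : X, ∃ g h : CDiv.KUnits X, Reg x (g : X.functionField) ∧ Reg x (h : X.functionField) ∧
      D.1 x = CDiv.germOf X x g * (CDiv.germOf X x h)⁻¹ := by
    intro x
    obtain ⟨f, hf⟩ := QuotientGroup.mk_surjective (D.1 x)
    obtain ⟨a, b, hb, hab⟩ := IsFractionRing.div_surjective (A := X.presheaf.stalk x) (f : X.functionField)
    have hbK := IsFractionRing.to_map_ne_zero_of_mem_nonZeroDivisors (K := X.functionField) hb
    have haK : algebraMap (X.presheaf.stalk x) X.functionField a ≠ 0 := fun h => by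
      rw [h, zero_div] at hab; exact f.ne_zero hab.symm
    refine ⟨Units.mk0 _ haK, Units.mk0 _ hbK, ⟨a, rfl⟩, ⟨b, rfl⟩, ?_⟩
    rw [← hf, CDiv.germOf, CDiv.germOf, ← QuotientGroup.mk_inv, ← QuotientGroup.mk_mul]
    congr 1
    ext
    simp [← hab, div_eq_mul_inv]
  choose g h hg hh heq using hd
  have hS := isClosed_supp D
  have hSd := discrete_of_closed hdim hS (genericPoint_notMem_supp D)
  obtain ⟨D₁, ⟨hs₁, hd₁⟩, -⟩ := exists_divisor_of_germs hdim hS hSd fun x => CDiv.germOf X x (g x)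
  obtain ⟨D₂, ⟨hs₂, hd₂⟩, -⟩ := exists_divisor_of_germs hdim hS hSd fun x => CDiv.germOf X x (h x)
  have eff : ∀ (D' : CDiv.Divisor X) (g : X → CDiv.KUnits X), CDiv.supp D' ⊆ CDiv.supp D →
      (∀ x ∈ CDiv.supp D, D'.1 x = CDiv.germOf X x (g x)) → (∀ x, Reg x (g x : X.functionField)) →
      CDiv.IsEffective D' := by
    intro D' g hs hd hg x
    by_cases hx : x ∈ CDiv.supp D
    · exact (isEffectiveAt_iff (hd x hx)).mpr (hg x)
    · have h1 : D'.1 x = CDiv.germOf X x 1 := (not_not.mp fun h => hx (hs h)).trans (by simp [CDiv.germOf])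
      exact (isEffectiveAt_iff h1).mpr ⟨1, by simp⟩
  refine ⟨D₁, D₂, eff D₁ g hs₁ hd₁ hg, eff D₂ h hs₂ hd₂ hh, Subtype.ext (funext fun x => ?_), hs₁, hs₂⟩
  show D.1 x = D₁.1 x * (D₂.1 x)⁻¹
  by_cases hx : x ∈ CDiv.supp D
  · rw [hd₁ x hx, hd₂ x hx]; exact heq x
  · rw [not_not.mp fun h => hx (hs₁ h), not_not.mp fun h => hx (hs₂ h), not_not.mp hx]
    exact (mul_inv_eq_one.mpr rfl).symm

theorem exists_effective_supported_in (hX : ∀ x : X, ¬ IsOpen ({x} : Set X)) (U : X.Opens)
    (hU : (U : Set X).Nonempty) :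
    ∃ D : CDiv.Divisor X, CDiv.IsEffective D ∧ D ≠ 1 ∧ CDiv.supp D ⊆ (U : Set X) := by
  classical
  obtain ⟨y, hyU, hyη⟩ : ∃ y ∈ (U : Set X), y ≠ genericPoint X := by
    by_contra hc
    push Not at hc
    refine hX (genericPoint X) ?_
    convert U.isOpen
    exact (Set.Subset.antisymm hc (fun z hz => hz ▸
      ((genericPoint_spec X).mem_open_set_iff U.isOpen).mpr (by simpa using hU))).symm
  have hcl := isClosed_singleton hdim hyη
  obtain ⟨a, hau, ha0⟩ : ∃ a : X.presheaf.stalk y, ¬ IsUnit a ∧ a ≠ 0 := by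
    by_contra hc
    push Not at hc
    have hF : IsField (X.presheaf.stalk y) := ⟨⟨0, 1, zero_ne_one⟩, mul_comm, fun {a} ha => by
      obtain ⟨v, hv⟩ := (not_imp_comm.mp (hc a) ha)
      exact ⟨↑v⁻¹, hv ▸ v.mul_inv⟩⟩
    letI := hF.toField
    have hr := X.range_fromSpecStalk (x := y)
    have hmem : genericPoint X ∈ Set.range (X.fromSpecStalk y) :=
      hr ▸ (genericPoint_spec X).specializes trivial
    have hymem : y ∈ Set.range (X.fromSpecStalk y) := hr ▸ specializes_rfl
    obtain ⟨p, hp⟩ := hmem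
    obtain ⟨q, hq⟩ := hymem
    haveI : Subsingleton (PrimeSpectrum (X.presheaf.stalk y)) :=
      ⟨fun p q => PrimeSpectrum.ext (p.asIdeal.eq_bot_of_prime.trans q.asIdeal.eq_bot_of_prime.symm)⟩
    exact hyη (hq.symm.trans ((congrArg (X.fromSpecStalk y) (Subsingleton.elim (α := PrimeSpectrum (X.presheaf.stalk y)) q p)).trans hp))
  have haK : algebraMap (X.presheaf.stalk y) X.functionField a ≠ 0 := fun h =>
    ha0 (IsFractionRing.injective (X.presheaf.stalk y) X.functionField (by rw [h, map_zero]))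
  let g : CDiv.KUnits X := Units.mk0 _ haK
  obtain ⟨D, ⟨hs, hd⟩, -⟩ := exists_divisor_of_germs hdim hcl inferInstance (fun z => CDiv.germOf X z g)
  refine ⟨D, fun z => ?_, fun h1 => hau ?_, hs.trans (Set.singleton_subset_iff.mpr hyU)⟩
  · by_cases hz : z = y
    · subst hz
      exact (isEffectiveAt_iff (hd z rfl)).mpr ⟨a, rfl⟩
    · have h1 : D.1 z = CDiv.germOf X z 1 := (not_not.mp fun h => hz (hs h)).trans (by simp [CDiv.germOf])
      exact (isEffectiveAt_iff h1).mpr ⟨1, by simp⟩
  · have := (germOf_eq_one_iff y g).mp (by rw [← hd y rfl, h1]; rfl)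
    obtain ⟨b, hb⟩ := this.2
    refine IsUnit.of_mul_eq_one b (IsFractionRing.injective (X.presheaf.stalk y) X.functionField ?_)
    rw [map_mul, hb, map_one]
    simp [g, haK]

end DimOne

end Groth.Agent.CDiv6
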